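import Cfsg.Prelude.Def_Characters
import Cfsg.Prelude.Def_ParabolicCharacters
import Cfsg.Agent.Lib.SL2Trace.Basic
import Cfsg.Agent.Lib.Linear.Card
import Cfsg.Agent.Lib.Char.Induced
import Mathlib.NumberTheory.MulChar.Lemmas
import Mathlib.GroupTheory.GroupAction.CardCommute

/-! The upper triangular subgroup of `SL₂(F)` and the principal series functions. -/

set_option autoImplicit false

open scoped ComplexConjugate

namespace CfsgLib.SL2Borel

open Matrix CfsgLib.SL2Trace

variable {F : Type*} [Field F]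

/-- The upper triangular subgroup of `SL₂`. -/
abbrev borel (F : Type*) [Field F] : Subgroup (Matrix.SpecialLinearGroup (Fin 2) F) :=
  (Cfsg.upperTriangularGL 2 F).comap Matrix.SpecialLinearGroup.toGL

theorem mem_borel_iff {x : Matrix.SpecialLinearGroup (Fin 2) F} :
    x ∈ borel F ↔ (x : Matrix (Fin 2) (Fin 2) F) 1 0 = 0 := by
  constructor
  · intro h
    exact h (show id (0 : Fin 2) < id 1 by decide)
  · intro h
    show (x : Matrix (Fin 2) (Fin 2) F).BlockTriangular id
    intro i j hij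
    fin_cases i <;> fin_cases j <;> simp_all

/-- Elements of the Borel subgroup are given by a unit and a field element. -/
def borelEquiv : borel F ≃ Fˣ × F where
  toFun b := (⟨(b.1 : Matrix (Fin 2) (Fin 2) F) 0 0, (b.1 : Matrix (Fin 2) (Fin 2) F) 1 1,
      by
        have h := det_coe b.1
        rw [mem_borel_iff.1 b.2] at h
        linear_combination h,
      by
        have h := det_coe b.1
        rw [mem_borel_iff.1 b.2] at h
        linear_combination h⟩, (b.1 : Matrix (Fin 2) (Fin 2) F) 0 1)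
  invFun p := ⟨mk2 (p.1 : F) p.2 0 ((p.1⁻¹ : Fˣ) : F) (by simp), mem_borel_iff.2 rfl⟩
  left_inv b := by
    apply Subtype.ext
    apply Subtype.ext
    ext i j
    fin_cases i <;> fin_cases j <;> simp [mk2, (mem_borel_iff.1 b.2)]
  right_inv p := by
    apply Prod.ext
    · exact Units.ext rfl
    · rfl

/-- An element of the Borel subgroup from its parameters. -/
def bMk (a : Fˣ) (u : F) : borel F := borelEquiv.symm (a, u)

theorem bMk_coe (a : Fˣ) (u : F) :
    ((bMk a u : Matrix.SpecialLinearGroup (Fin 2) F) : Matrix (Fin 2) (Fin 2) F) =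
      !![(a : F), u; 0, ((a⁻¹ : Fˣ) : F)] := rfl

variable [Fintype F]

theorem card_borel : Nat.card (borel F) = (Fintype.card F - 1) * Fintype.card F := by
  rw [Nat.card_congr borelEquiv, Nat.card_prod, Nat.card_units, Nat.card_eq_fintype_card]

theorem card_borel_ne_zero : (Nat.card (borel F) : ℂ) ≠ 0 :=
  Nat.cast_ne_zero.mpr Nat.card_pos.ne'

theorem card_SL2_eq_mul_borel :
    Nat.card (Matrix.SpecialLinearGroup (Fin 2) F) = (Fintype.card F + 1) * Nat.card (borel F) := by
  classical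
  rw [CfsgLib.Linear.card_SL_two, card_borel]
  obtain ⟨k, hk⟩ : ∃ k, Fintype.card F = k + 1 :=
    ⟨_, (Nat.sub_add_cancel Fintype.card_pos).symm⟩
  rw [hk, Nat.add_sub_cancel, show (k + 1) ^ 2 = k * (k + 2) + 1 by ring, Nat.add_sub_cancel]
  ring

/-- The principal series function attached to a multiplicative character. -/
noncomputable abbrev R [DecidableEq F] (α : MulChar F ℂ) : Matrix.SpecialLinearGroup (Fin 2) F → ℂ :=
  Cfsg.indFun (borel F) (fun b => α (((b : Matrix.SpecialLinearGroup (Fin 2) F) :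
    Matrix (Fin 2) (Fin 2) F) 0 0))

variable [DecidableEq F] (α : MulChar F ℂ)

theorem isClassFunction_R :
    Cfsg.IsClassFunction (Matrix.SpecialLinearGroup (Fin 2) F) (R α) :=
  CfsgLib.Char.isClassFunction_indFun _ _

/-- The summand of the induction formula. -/
noncomputable def term (y : Matrix.SpecialLinearGroup (Fin 2) F) : ℂ :=
  if (y : Matrix (Fin 2) (Fin 2) F) 1 0 = 0 then α ((y : Matrix (Fin 2) (Fin 2) F) 0 0) else 0

theorem R_apply (g : Matrix.SpecialLinearGroup (Fin 2) F) :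
    R α g = (Nat.card (borel F) : ℂ)⁻¹ *
      ∑ x : Matrix.SpecialLinearGroup (Fin 2) F, term α (x⁻¹ * g * x) := by
  rw [R, CfsgLib.Char.indFun_apply]
  congr 1
  refine Finset.sum_congr rfl fun x _ => ?_
  unfold term
  split_ifs with h
  · rw [CfsgLib.Char.extendByZero_apply_mem _ _ (mem_borel_iff.2 h)]
  · rw [CfsgLib.Char.extendByZero_of_notMem _ _ fun h' => h (mem_borel_iff.1 h')]

omit [Fintype F] [DecidableEq F] in
theorem conj_entries (g x : Matrix.SpecialLinearGroup (Fin 2) F) :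
    ((x⁻¹ * g * x : Matrix.SpecialLinearGroup (Fin 2) F) : Matrix (Fin 2) (Fin 2) F) 1 0 =
        (g : Matrix (Fin 2) (Fin 2) F) 1 0 * (x : Matrix (Fin 2) (Fin 2) F) 0 0 ^ 2 +
          ((g : Matrix (Fin 2) (Fin 2) F) 1 1 - (g : Matrix (Fin 2) (Fin 2) F) 0 0) *
            (x : Matrix (Fin 2) (Fin 2) F) 0 0 * (x : Matrix (Fin 2) (Fin 2) F) 1 0 -
          (g : Matrix (Fin 2) (Fin 2) F) 0 1 * (x : Matrix (Fin 2) (Fin 2) F) 1 0 ^ 2 ∧
      ((x⁻¹ * g * x : Matrix.SpecialLinearGroup (Fin 2) F) : Matrix (Fin 2) (Fin 2) F) 0 0 =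
        (x : Matrix (Fin 2) (Fin 2) F) 1 1 *
            ((g : Matrix (Fin 2) (Fin 2) F) 0 0 * (x : Matrix (Fin 2) (Fin 2) F) 0 0 +
              (g : Matrix (Fin 2) (Fin 2) F) 0 1 * (x : Matrix (Fin 2) (Fin 2) F) 1 0) -
          (x : Matrix (Fin 2) (Fin 2) F) 0 1 *
            ((g : Matrix (Fin 2) (Fin 2) F) 1 0 * (x : Matrix (Fin 2) (Fin 2) F) 0 0 +
              (g : Matrix (Fin 2) (Fin 2) F) 1 1 * (x : Matrix (Fin 2) (Fin 2) F) 1 0) := by
  rw [Matrix.SpecialLinearGroup.coe_mul, Matrix.SpecialLinearGroup.coe_mul,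
    Matrix.SpecialLinearGroup.coe_inv, Matrix.adjugate_fin_two]
  constructor <;> simp [Matrix.mul_apply, Matrix.vecMul, dotProduct, Fin.sum_univ_two] <;> ring

/-- The Weyl element. -/
def wElt : Matrix.SpecialLinearGroup (Fin 2) F := mk2 0 (-1) 1 0 (by ring)

omit [Fintype F] [DecidableEq F] in
theorem wElt_mul_entries (x : Matrix.SpecialLinearGroup (Fin 2) F) :
    ((wElt * x : Matrix.SpecialLinearGroup (Fin 2) F) : Matrix (Fin 2) (Fin 2) F) 1 0 =
      (x : Matrix (Fin 2) (Fin 2) F) 0 0 := by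
  rw [Matrix.SpecialLinearGroup.coe_mul, wElt, coe_mk2]
  simp [Matrix.mul_apply, Fin.sum_univ_two]

theorem card_first_zero :
    Nat.card {x : Matrix.SpecialLinearGroup (Fin 2) F // (x : Matrix (Fin 2) (Fin 2) F) 0 0 = 0} =
      Nat.card (borel F) :=
  Nat.card_congr (Equiv.subtypeEquiv (Equiv.mulLeft wElt) fun x => by
    rw [mem_borel_iff, Equiv.coe_mulLeft, wElt_mul_entries])

theorem sum_ite_eq_card {G : Type*} [Fintype G] (p : G → Prop) [DecidablePred p] (c : ℂ) :
    ∑ x : G, (if p x then c else 0) = (Nat.card {x // p x} : ℂ) * c := by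
  rw [← Finset.sum_filter, Finset.sum_const, nsmul_eq_mul, Nat.card_eq_fintype_card,
    Fintype.card_subtype]

theorem R_diag {g : Matrix.SpecialLinearGroup (Fin 2) F}
    (h01 : (g : Matrix (Fin 2) (Fin 2) F) 0 1 = 0) (h10 : (g : Matrix (Fin 2) (Fin 2) F) 1 0 = 0)
    (hne : (g : Matrix (Fin 2) (Fin 2) F) 0 0 ≠ (g : Matrix (Fin 2) (Fin 2) F) 1 1) :
    R α g = α ((g : Matrix (Fin 2) (Fin 2) F) 0 0) + α ((g : Matrix (Fin 2) (Fin 2) F) 1 1) := by
  have key : ∀ x : Matrix.SpecialLinearGroup (Fin 2) F, term α (x⁻¹ * g * x) =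
      (if (x : Matrix (Fin 2) (Fin 2) F) 1 0 = 0 then α ((g : Matrix (Fin 2) (Fin 2) F) 0 0) else 0) +
        (if (x : Matrix (Fin 2) (Fin 2) F) 0 0 = 0 then α ((g : Matrix (Fin 2) (Fin 2) F) 1 1)
          else 0) := by
    intro x
    have hd := det_coe x
    obtain ⟨e1, e2⟩ := conj_entries g x
    rw [h01, h10] at e1 e2
    unfold term
    rw [e1, e2]
    by_cases hc : (x : Matrix (Fin 2) (Fin 2) F) 1 0 = 0
    · rw [hc] at hd
      have ha : (x : Matrix (Fin 2) (Fin 2) F) 0 0 ≠ 0 := by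
        intro ha; rw [ha] at hd; simp at hd
      rw [if_pos hc, if_neg ha, add_zero, hc, if_pos (by ring)]
      congr 1
      linear_combination ((g : Matrix (Fin 2) (Fin 2) F) 0 0) * hd
    · by_cases ha : (x : Matrix (Fin 2) (Fin 2) F) 0 0 = 0
      · rw [ha] at hd
        rw [if_neg hc, if_pos ha, zero_add, ha, if_pos (by ring)]
        congr 1
        linear_combination ((g : Matrix (Fin 2) (Fin 2) F) 1 1) * hd
      · rw [if_neg hc, if_neg ha, add_zero, if_neg]
        simp only [zero_mul, zero_add, sub_zero]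
        exact mul_ne_zero (mul_ne_zero (sub_ne_zero.2 hne.symm) ha) hc
  rw [R_apply]
  simp_rw [key, Finset.sum_add_distrib, sum_ite_eq_card, card_first_zero]
  rw [show Nat.card {x : Matrix.SpecialLinearGroup (Fin 2) F // (x : Matrix (Fin 2) (Fin 2) F) 1 0 = 0}
      = Nat.card (borel F) from Nat.card_congr (Equiv.subtypeEquivRight fun x => mem_borel_iff.symm),
    ← mul_add, inv_mul_cancel_left₀ card_borel_ne_zero]

theorem R_upper {g : Matrix.SpecialLinearGroup (Fin 2) F}
    (h10 : (g : Matrix (Fin 2) (Fin 2) F) 1 0 = 0)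
    (he : (g : Matrix (Fin 2) (Fin 2) F) 0 0 = (g : Matrix (Fin 2) (Fin 2) F) 1 1)
    (h01 : (g : Matrix (Fin 2) (Fin 2) F) 0 1 ≠ 0) :
    R α g = α ((g : Matrix (Fin 2) (Fin 2) F) 0 0) := by
  have key : ∀ x : Matrix.SpecialLinearGroup (Fin 2) F, term α (x⁻¹ * g * x) =
      (if (x : Matrix (Fin 2) (Fin 2) F) 1 0 = 0 then α ((g : Matrix (Fin 2) (Fin 2) F) 0 0)
        else 0) := by
    intro x
    have hd := det_coe x
    obtain ⟨e1, e2⟩ := conj_entries g x
    rw [h10, ← he] at e1 e2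
    unfold term
    rw [e1, e2]
    by_cases hc : (x : Matrix (Fin 2) (Fin 2) F) 1 0 = 0
    · rw [hc] at hd
      rw [if_pos hc, hc, if_pos (by ring)]
      congr 1
      linear_combination ((g : Matrix (Fin 2) (Fin 2) F) 0 0) * hd
    · rw [if_neg hc, if_neg]
      simp only [zero_mul, sub_self, zero_add, zero_sub, neg_ne_zero]
      exact mul_ne_zero h01 (pow_ne_zero 2 hc)
  rw [R_apply]
  simp_rw [key, sum_ite_eq_card]
  rw [show Nat.card {x : Matrix.SpecialLinearGroup (Fin 2) F // (x : Matrix (Fin 2) (Fin 2) F) 1 0 = 0}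
      = Nat.card (borel F) from Nat.card_congr (Equiv.subtypeEquivRight fun x => mem_borel_iff.symm),
    inv_mul_cancel_left₀ card_borel_ne_zero]

theorem R_scalar {g : Matrix.SpecialLinearGroup (Fin 2) F}
    (h01 : (g : Matrix (Fin 2) (Fin 2) F) 0 1 = 0) (h10 : (g : Matrix (Fin 2) (Fin 2) F) 1 0 = 0)
    (he : (g : Matrix (Fin 2) (Fin 2) F) 0 0 = (g : Matrix (Fin 2) (Fin 2) F) 1 1) :
    R α g = ((Fintype.card F : ℂ) + 1) * α ((g : Matrix (Fin 2) (Fin 2) F) 0 0) := by
  have key : ∀ x : Matrix.SpecialLinearGroup (Fin 2) F, term α (x⁻¹ * g * x) =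
      α ((g : Matrix (Fin 2) (Fin 2) F) 0 0) := by
    intro x
    have hd := det_coe x
    obtain ⟨e1, e2⟩ := conj_entries g x
    rw [h01, h10, ← he] at e1 e2
    unfold term
    rw [e1, e2, if_pos (by ring)]
    congr 1
    linear_combination ((g : Matrix (Fin 2) (Fin 2) F) 0 0) * hd
  rw [R_apply]
  simp_rw [key]
  rw [Finset.sum_const, nsmul_eq_mul, Finset.card_univ, ← Nat.card_eq_fintype_card,
    card_SL2_eq_mul_borel, Nat.cast_mul]
  push_cast
  rw [mul_comm ((Fintype.card F : ℂ) + 1), mul_assoc, inv_mul_cancel_left₀ card_borel_ne_zero]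

theorem R_noEigen {g : Matrix.SpecialLinearGroup (Fin 2) F}
    (h : ∀ (c : F) (v : Fin 2 → F), v ≠ 0 →
      (g : Matrix (Fin 2) (Fin 2) F).mulVec v ≠ c • v) : R α g = 0 := by
  refine CfsgLib.Char.indFun_eq_zero_of_forall_notMem _ _ g fun x hx => ?_
  rw [mem_borel_iff] at hx
  obtain ⟨e1, e2⟩ := conj_entries g x
  rw [hx] at e1
  have hd := det_coe x
  refine h (((x⁻¹ * g * x : Matrix.SpecialLinearGroup (Fin 2) F) :
    Matrix (Fin 2) (Fin 2) F) 0 0) (fun i => (x : Matrix (Fin 2) (Fin 2) F) i 0) ?_ ?_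
  · intro h0
    have ha : (x : Matrix (Fin 2) (Fin 2) F) 0 0 = 0 := congrFun h0 0
    have hb : (x : Matrix (Fin 2) (Fin 2) F) 1 0 = 0 := congrFun h0 1
    rw [ha, hb] at hd
    simp at hd
  · rw [e2]
    funext i
    fin_cases i <;> simp [Matrix.mulVec, dotProduct, Fin.sum_univ_two]
    · linear_combination (-((g : Matrix (Fin 2) (Fin 2) F) 0 0 * (x : Matrix (Fin 2) (Fin 2) F) 0 0 +
        (g : Matrix (Fin 2) (Fin 2) F) 0 1 * (x : Matrix (Fin 2) (Fin 2) F) 1 0)) * hd -
        (x : Matrix (Fin 2) (Fin 2) F) 0 1 * e1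
    · linear_combination (-((g : Matrix (Fin 2) (Fin 2) F) 1 0 * (x : Matrix (Fin 2) (Fin 2) F) 0 0 +
        (g : Matrix (Fin 2) (Fin 2) F) 1 1 * (x : Matrix (Fin 2) (Fin 2) F) 1 0)) * hd -
        (x : Matrix (Fin 2) (Fin 2) F) 1 1 * e1

/-- Coset sums of a principal series function along the unipotent radical. -/
theorem sum_R_bMk (a : Fˣ) :
    ∑ u : F, R α (bMk a u : Matrix.SpecialLinearGroup (Fin 2) F) =
      (Fintype.card F : ℂ) * (α (a : F) + α ((a⁻¹ : Fˣ) : F)) := by
  by_cases h : (a : F) = ((a⁻¹ : Fˣ) : F)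
  · have hv : ∀ u : F, R α (bMk a u : Matrix.SpecialLinearGroup (Fin 2) F) =
        if u = 0 then ((Fintype.card F : ℂ) + 1) * α (a : F) else α (a : F) := by
      intro u
      split_ifs with hu
      · subst hu
        exact R_scalar α (by simp [bMk_coe]) (by simp [bMk_coe]) (by simpa [bMk_coe] using h)
      · exact R_upper α (by simp [bMk_coe]) (by simpa [bMk_coe] using h) (by simpa [bMk_coe] using hu)
    simp_rw [hv]
    rw [← Finset.add_sum_erase _ _ (Finset.mem_univ (0 : F)), if_pos rfl,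
      Finset.sum_congr rfl (fun u hu => if_neg (Finset.ne_of_mem_erase hu)),
      Finset.sum_const, Finset.card_erase_of_mem (Finset.mem_univ _), Finset.card_univ,
      nsmul_eq_mul, Nat.cast_sub Fintype.card_pos, ← h]
    push_cast
    ring
  · have hv : ∀ u : F, R α (bMk a u : Matrix.SpecialLinearGroup (Fin 2) F) =
        α (a : F) + α ((a⁻¹ : Fˣ) : F) := by
      intro u
      obtain ⟨P, hP⟩ : ∃ P : Matrix.SpecialLinearGroup (Fin 2) F,
          (bMk a u : Matrix.SpecialLinearGroup (Fin 2) F) =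
            P * (bMk a 0 : Matrix.SpecialLinearGroup (Fin 2) F) * P⁻¹ := by
        obtain ⟨c, hc⟩ : ∃ c : F, c * (((a⁻¹ : Fˣ) : F) - (a : F)) = u :=
          ⟨u / (((a⁻¹ : Fˣ) : F) - (a : F)), div_mul_cancel₀ u (sub_ne_zero.2 fun e => h e.symm)⟩
        refine ⟨mk2 1 c 0 1 (by ring), ?_⟩
        rw [eq_mul_inv_iff_mul_eq]
        apply Subtype.ext
        rw [Matrix.SpecialLinearGroup.coe_mul, Matrix.SpecialLinearGroup.coe_mul, bMk_coe, bMk_coe,
          coe_mk2]
        simp only [Units.val_inv_eq_inv_val] at hc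
        ext i j
        fin_cases i <;> fin_cases j <;> simp [Matrix.mul_apply, Fin.sum_univ_two]
        linear_combination -hc
      rw [hP, isClassFunction_R α _ P]
      have := R_diag α (g := (bMk a 0 : Matrix.SpecialLinearGroup (Fin 2) F))
        (by simp [bMk_coe]) (by simp [bMk_coe]) (by simpa [bMk_coe] using h)
      simpa [bMk_coe] using this
    simp_rw [hv]
    rw [Finset.sum_const, Finset.card_univ, nsmul_eq_mul]

/-- Mackey formula for the principal series. -/
theorem classInner_R (β : MulChar F ℂ) [Decidable (α = β)]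
    [Decidable (α = β⁻¹)] :
    Cfsg.classInner (R α) (R β) = (if α = β then 1 else 0) + (if α = β⁻¹ then 1 else 0) := by
  classical
  rw [R, CfsgLib.Char.classInner_indFun _ _ _ (CfsgLib.Char.isClassFunction_indFun _ _)]
  unfold Cfsg.classInner
  rw [← (borelEquiv (F := F)).symm.sum_comp, Fintype.sum_prod_type]
  have step : ∀ a : Fˣ, (∑ u : F, α ((((bMk a u) : Matrix.SpecialLinearGroup (Fin 2) F) :
      Matrix (Fin 2) (Fin 2) F) 0 0) *
      conj (R β (bMk a u : Matrix.SpecialLinearGroup (Fin 2) F))) =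
      (Fintype.card F : ℂ) * ((α * β⁻¹) (a : F) + (α * β) (a : F)) := by
    intro a
    have h00 : ∀ u : F, (((bMk a u) : Matrix.SpecialLinearGroup (Fin 2) F) :
        Matrix (Fin 2) (Fin 2) F) 0 0 = (a : F) := fun u => rfl
    simp_rw [h00, ← Finset.mul_sum, ← map_sum, sum_R_bMk β, map_mul, map_add, map_natCast]
    have c1 : ∀ x : F, conj (β x) = β⁻¹ x := fun x => MulChar.star_apply' β x
    have c2 : β⁻¹ ((a⁻¹ : Fˣ) : F) = β (a : F) := by
      rw [MulChar.inv_apply', Units.val_inv_eq_inv_val, inv_inv]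
    rw [c1, c1, c2, MulChar.coeToFun_mul, Pi.mul_apply, MulChar.coeToFun_mul, Pi.mul_apply]
    ring
  show (Nat.card (borel F) : ℂ)⁻¹ * ∑ a : Fˣ, ∑ u : F, _ = _
  refine (congrArg _ (Finset.sum_congr rfl fun a _ => step a)).trans ?_
  have hsum : ∀ χ : MulChar F ℂ, ∑ a : Fˣ, χ (a : F) =
      if χ = 1 then ((Fintype.card F : ℂ) - 1) else 0 := by
    intro χ
    have hu : ∑ a : Fˣ, χ (a : F) = ∑ x ∈ Finset.univ.filter (fun x : F => x ≠ 0), χ x := by
      rw [Finset.sum_subtype (Finset.univ.filter (fun x : F => x ≠ 0)) (p := fun x : F => x ≠ 0)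
        (by simp) (fun x => χ x)]
      exact Fintype.sum_equiv unitsEquivNeZero _ _ (fun a => rfl)
    split_ifs with hχ
    · subst hχ
      simp [MulChar.one_apply_coe, Fintype.card_units, Nat.cast_sub Fintype.card_pos]
    · rw [hu]
      refine (Finset.sum_filter_of_ne (p := fun x : F => x ≠ 0) ?_).trans
        (MulChar.sum_eq_zero_of_ne_one hχ)
      intro x _ hx h0
      exact hx (by rw [h0, MulChar.map_zero])
  rw [← Finset.mul_sum, Finset.sum_add_distrib, hsum, hsum, card_borel, Nat.cast_mul,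
    Nat.cast_sub Fintype.card_pos]
  have e1 : α * β⁻¹ = 1 ↔ α = β := mul_inv_eq_one
  have e2 : α * β = 1 ↔ α = β⁻¹ := mul_eq_one_iff_eq_inv
  have hq : (Fintype.card F : ℂ) ≠ 0 := Nat.cast_ne_zero.2 Fintype.card_ne_zero
  have hq1 : (Fintype.card F : ℂ) - 1 ≠ 0 := sub_ne_zero.2 (by
    exact_mod_cast (Fintype.one_lt_card (α := F)).ne')
  simp only [e1, e2, Nat.cast_one]
  split_ifs <;> field_simp <;> ring

end CfsgLib.SL2Borel
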